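import Groth.Agent.L05.GeomMult.Basic
import Groth.Agent.L05.ArFamily.Main
import Groth.Agent.L05.EulerDiv.Fibre
import Groth.Agent.L18.KerReduced
import Groth.Agent.S4702

/-!
The list of components of the closed fibre of a proper flat surface over a discrete valuation ring.
-/

set_option autoImplicit false
set_option backward.isDefEq.respectTransparency false
set_option linter.style.haveILetI false
set_option linter.unusedSectionVars false
universe u

open CategoryTheory CategoryTheory.Limits AlgebraicGeometry TopologicalSpace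

noncomputable section

namespace Groth.L05.GeomMult

variable {R : Type u} [CommRing R] [IsDomain R] [IsDiscreteValuationRing R]

/-- The closed point. -/
abbrev pt (R : Type u) [CommRing R] [IsDomain R] [IsDiscreteValuationRing R] :
    Spec (CommRingCat.of (IsLocalRing.ResidueField R)) ⟶ Spec (CommRingCat.of R) :=
  Spec.map (CommRingCat.ofHom (IsLocalRing.residue R))

instance : IsClosedImmersion (pt R) := Groth.L05.InterPair.isClosedImmersion_pt (R := R)

theorem range_pt : Set.range (pt R) = ({IsLocalRing.closedPoint R} : Set (PrimeSpectrum R)) := by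
  haveI : Nonempty (Spec (CommRingCat.of (IsLocalRing.ResidueField R))) :=
    ⟨(⟨⊥, Ideal.isPrime_bot⟩ : PrimeSpectrum (IsLocalRing.ResidueField R))⟩
  refine Set.Nonempty.subset_singleton_iff (Set.range_nonempty _) |>.1 ?_
  rintro _ ⟨t, rfl⟩
  refine PrimeSpectrum.ext ?_
  show Ideal.comap (IsLocalRing.residue R) t.asIdeal = IsLocalRing.maximalIdeal R
  rw [(Ideal.eq_bot_or_top t.asIdeal).resolve_right t.2.ne_top]
  exact Ideal.mk_ker

variable {X : Over (Spec (CommRingCat.of R))}

theorem range_fst_eq :
    Set.range (pullback.fst X.hom (pt R)) = Models.specialFibreSet R X := by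
  rw [Scheme.Pullback.range_fst, range_pt]
  rfl

theorem ker_fst_eq : (pullback.fst X.hom (pt R)).ker = Models.specialFibreIdeal R X := by
  rw [Scheme.IdealSheafData.ker_fst_of_isClosedImmersion, Groth.L05.EulerDiv.ker_pt]
  rfl

variable [IsProper X.hom] [Flat X.hom] [IsIntegral X.left]

theorem dim_component (hdim : topologicalKrullDim X.left = 2)
    {Z : Set ↥(pullback X.hom (pt R))} (hZ : Z ∈ irreducibleComponents ↥(pullback X.hom (pt R))) :
    topologicalKrullDim Z = 1 := by
  let j := pullback.fst X.hom (pt R)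
  let Y := Spec (CommRingCat.of R)
  haveI : IsDomain (CommRingCat.of R) := inferInstanceAs (IsDomain R)
  haveI : IsNoetherianRing (CommRingCat.of R) := inferInstanceAs (IsNoetherianRing R)
  let y : Y := IsLocalRing.closedPoint R
  let η : Y := genericPoint Y
  have hYdim : topologicalKrullDim Y = 1 :=
    (PrimeSpectrum.topologicalKrullDim_eq_ringKrullDim R).trans (IsDiscreteValuationRing.ringKrullDim_eq_one R)
  have hYpt : ∀ p : Y, p = y ∨ p = η := fun p => by
    by_cases h : p.asIdeal = ⊥
    · right
      show p = genericPoint (Spec (CommRingCat.of R))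
      rw [genericPoint_eq_bot_of_affine]
      exact PrimeSpectrum.ext h
    · left
      exact PrimeSpectrum.ext (IsLocalRing.eq_maximalIdeal (p.2.isMaximal h))
  have hne : (η : Y) ≠ y := fun h => by
    have h' : genericPoint (Spec (CommRingCat.of R)) = y := h
    rw [genericPoint_eq_bot_of_affine] at h'
    exact IsDiscreteValuationRing.not_a_field R (congrArg PrimeSpectrum.asIdeal h').symm
  -- the generic point lies over the generic point
  have hgen : X.hom (genericPoint X.left) = η := by
    obtain ⟨x', hx', hx''⟩ := Flat.generalizingMap X.hom (genericPoint_specializes (X.hom (genericPoint X.left)))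
    have hxe : x' = genericPoint X.left := (hx'.antisymm (genericPoint_specializes x')).eq
    rw [hxe] at hx''
    exact hx''
  have hp : DenseRange X.hom.base := by
    refine dense_iff_closure_eq.2 (Set.eq_univ_of_univ_subset ?_)
    rw [← (genericPoint_spec Y).def]
    exact closure_mono (Set.singleton_subset_iff.2 ⟨_, hgen⟩)
  have hTy : (X.hom ⁻¹' {y} : Set X.left) = Set.range j := (range_fst_eq (X := X)).symm
  have hne' : (X.hom ⁻¹' {y} : Set X.left) ≠ Set.univ := fun h =>
    hne (hgen.symm.trans (h.ge (Set.mem_univ (genericPoint X.left))))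
  -- homeomorphism with the fibre
  let eF : ↥(pullback X.hom (pt R)) ≃ₜ X.hom.fiber y :=
    (j.isClosedEmbedding.isEmbedding.toHomeomorph.trans (Homeomorph.setCongr hTy.symm)).trans (X.hom.fiberHomeo y).symm
  have hcomp : ∀ W ∈ irreducibleComponents ↥(pullback X.hom (pt R)),
      topologicalKrullDim W = topologicalKrullDim ↥(X.hom.fiber η) := by
    intro W hW
    have hW' : eF '' W ∈ irreducibleComponents (X.hom.fiber y) := by
      refine ⟨hW.1.image _ eF.continuous.continuousOn, fun V hV hle => ?_⟩
      have h := hW.2 (hV.image _ eF.symm.continuous.continuousOn) (fun w hw => ⟨eF w, hle ⟨w, hw, rfl⟩, eF.symm_apply_apply w⟩)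
      exact fun v hv => ⟨eF.symm v, h ⟨v, hv, rfl⟩, eF.apply_symm_apply v⟩
    have hyr : y ∈ Set.range X.hom.base := by
      obtain ⟨w, hw⟩ := hW.1.nonempty
      exact ⟨j w, hTy.ge ⟨w, rfl⟩⟩
    rw [IsHomeomorph.topologicalKrullDim_eq _ (eF.image W).isHomeomorph]
    exact Groth.Agent.S4702.result X.hom hYdim hp y hyr _ hW'
  have hle : topologicalKrullDim ↥(pullback X.hom (pt R)) ≤ 1 := by
    rw [IsHomeomorph.topologicalKrullDim_eq _ (j.isClosedEmbedding.isEmbedding.toHomeomorph).isHomeomorph, ← hTy]
    exact dim_le_one_of_proper_closed hdim ((IsLocalRing.isClosed_singleton_closedPoint R).preimage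
      X.hom.continuous) hne'
  refine le_antisymm ((Topology.IsInducing.topologicalKrullDim_le Topology.IsInducing.subtypeVal).trans hle) ?_
  -- a pair of points in one fibre
  rw [hcomp Z hZ]
  obtain ⟨z₁, z₀, hs, hne₁, hne₀⟩ : ∃ z₁ z₀ : X.left, z₁ ⤳ z₀ ∧ z₁ ≠ genericPoint X.left ∧ z₀ ≠ z₁ := by
    obtain ⟨l, hl⟩ := Order.le_krullDim_iff.1 (show ((2 : ℕ) : WithBot ℕ∞) ≤ Order.krullDim (IrreducibleCloseds X.left) by
      rw [show Order.krullDim (IrreducibleCloseds X.left) = 2 from hdim]; rfl)
    let i₀ : Fin (l.length + 1) := ⟨0, by omega⟩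
    let i₁ : Fin (l.length + 1) := ⟨1, by omega⟩
    let i₂ : Fin (l.length + 1) := ⟨2, by omega⟩
    have h01 : l i₀ < l i₁ := l.strictMono (show i₀ < i₁ from Fin.mk_lt_mk.2 Nat.zero_lt_one)
    have h12 : l i₁ < l i₂ := l.strictMono (show i₁ < i₂ from Fin.mk_lt_mk.2 Nat.one_lt_two)
    obtain ⟨z₁, hz₁⟩ := QuasiSober.sober (l i₁).isIrreducible (l i₁).isClosed
    obtain ⟨z₀, hz₀⟩ := QuasiSober.sober (l i₀).isIrreducible (l i₀).isClosed
    refine ⟨z₁, z₀, hz₁.specializes (h01.le hz₀.mem), fun h => ?_, fun h => ?_⟩
    · refine h12.not_ge fun w _ => ?_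
      rw [← SetLike.mem_coe, ← hz₁.def, h]
      exact (genericPoint_specializes w).mem_closure
    · refine h01.not_ge fun w hw => ?_
      rw [← SetLike.mem_coe, ← hz₀.def, h, hz₁.def]
      exact hw
  rcases hYpt (X.hom z₁) with h | h
  · have h0 : X.hom z₀ = y := by
      have h2 : X.hom z₁ ⤳ X.hom z₀ := hs.map X.hom.continuous
      rw [h] at h2
      exact (IsLocalRing.isClosed_singleton_closedPoint R).closure_eq.subset h2.mem_closure
    obtain ⟨a, rfl⟩ := hTy.le (show z₁ ∈ X.hom ⁻¹' {y} from h)
    obtain ⟨b, rfl⟩ := hTy.le (show z₀ ∈ X.hom ⁻¹' {y} from h0)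
    let W := irreducibleComponent a
    have hW : W ∈ irreducibleComponents _ := irreducibleComponent_mem_irreducibleComponents a
    have hab : a ⤳ b := j.isClosedEmbedding.isInducing.specializes_iff.1 hs
    have hbW : b ∈ W := hab.mem_closed isClosed_irreducibleComponent mem_irreducibleComponent
    rw [← hcomp W hW]
    refine one_le_dim_of_specializes (a := (⟨a, mem_irreducibleComponent⟩ : W)) (b := ⟨b, hbW⟩) ?_ ?_
    · exact Topology.IsInducing.subtypeVal.specializes_iff.1 hab
    · exact fun e => hne₀ (congrArg (fun t : W => j t.1) e)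
  · have he : Set.range (X.hom.fiberι η) = X.hom ⁻¹' {η} := X.hom.range_fiberι η
    obtain ⟨a, ha⟩ := he.ge (show genericPoint X.left ∈ X.hom ⁻¹' {η} from hgen)
    obtain ⟨b, hb⟩ := he.ge (show z₁ ∈ X.hom ⁻¹' {η} from h)
    refine one_le_dim_of_specializes (a := a) (b := b) ((X.hom.fiberι η).isEmbedding.isInducing.specializes_iff.1 ?_)
      fun e => hne₁ ?_
    · rw [ha, hb]; exact genericPoint_specializes z₁
    · rw [← ha, ← hb, e]

/-- The components of the closed fibre form a list of vertical curves. -/
theorem exists_componentList (hdim : topologicalKrullDim X.left = 2) :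
    ∃ (n : ℕ) (Γ : Fin n → ArSurf.VertComp R X), Models.IsComponentList R X Γ ∧
      ∀ x : ↥(pullback X.hom (pt R)), (∀ y, y ⤳ x → y = x) →
        ∃ i, Models.genPtOf R X (Γ i) = pullback.fst X.hom (pt R) x := by
  classical
  let P := pullback X.hom (pt R)
  let j := pullback.fst X.hom (pt R)
  haveI : IsLocallyNoetherian P := LocallyOfFiniteType.isLocallyNoetherian (pullback.snd X.hom (pt R))
  haveI : CompactSpace P := QuasiCompact.compactSpace_of_compactSpace (pullback.snd X.hom (pt R))
  haveI : IsNoetherian P := {}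
  haveI : Finite (irreducibleComponents P) := NoetherianSpace.finite_irreducibleComponents.to_subtype
  let e := (Finite.equivFin (irreducibleComponents P)).symm
  let Zc : Fin (Nat.card (irreducibleComponents P)) → Closeds P := fun i =>
    ⟨(e i).1, isClosed_of_mem_irreducibleComponents _ (e i).2⟩
  let E := fun i => (Scheme.IdealSheafData.vanishingIdeal (Zc i)).subscheme
  let ι := fun i => (Scheme.IdealSheafData.vanishingIdeal (Zc i)).subschemeι
  have hr : ∀ i, Set.range (ι i) = (e i).1 := fun i => by
    rw [Scheme.IdealSheafData.range_subschemeι, Scheme.IdealSheafData.coe_support_vanishingIdeal]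
    rfl
  have hint : ∀ i, IsIntegral (E i) := fun i => by
    haveI : IsReduced (E i) := Groth.L18.isReduced_vanishingIdeal_subscheme (Zc i)
    haveI : IrreducibleSpace (E i) := by
      have h : IsIrreducible (Set.univ : Set (E i)) := by
        refine ⟨?_, fun u v hu hv => ?_⟩
        · obtain ⟨z, hz⟩ := (e i).2.1.nonempty
          obtain ⟨a, -⟩ := (hr i).ge hz
          exact ⟨a, trivial⟩
        · rintro ⟨a, -, hau⟩ ⟨b, -, hbv⟩
          obtain ⟨u', hu', rfl⟩ := (ι i).isClosedEmbedding.isInducing.isOpen_iff.1 hu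
          obtain ⟨v', hv', rfl⟩ := (ι i).isClosedEmbedding.isInducing.isOpen_iff.1 hv
          obtain ⟨c, hc, hcu, hcv⟩ := (e i).2.1.2 u' v' hu' hv' ⟨_, (hr i).le ⟨a, rfl⟩, hau⟩ ⟨_, (hr i).le ⟨b, rfl⟩, hbv⟩
          obtain ⟨d, rfl⟩ := (hr i).ge hc
          exact ⟨d, trivial, hcu, hcv⟩
      haveI : Nonempty (E i) := ⟨h.1.some⟩
      haveI : PreirreducibleSpace (E i) := ⟨h.2⟩
      exact { toNonempty := inferInstance, toPreirreducibleSpace := inferInstance }
    exact isIntegral_of_irreducibleSpace_of_isReduced _
  haveI := hint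
  let Γ : Fin (Nat.card (irreducibleComponents P)) → ArSurf.VertComp R X := fun i =>
    { curve := Over.mk (ι i ≫ pullback.snd X.hom (pt R))
      ι := ι i ≫ j
      isClosedImmersion := MorphismProperty.comp_mem _ _ _ (inferInstanceAs (IsClosedImmersion (ι i)))
        (inferInstanceAs (IsClosedImmersion j))
      isIntegral := hint i
      dim_eq := by
        show topologicalKrullDim (E i) = 1
        rw [IsHomeomorph.topologicalKrullDim_eq _
          ((ι i).isClosedEmbedding.isEmbedding.toHomeomorph.trans (Homeomorph.setCongr (hr i))).isHomeomorph]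
        exact dim_component hdim (e i).2
      w := by
        show (ι i ≫ j) ≫ X.hom = (ι i ≫ pullback.snd X.hom (pt R)) ≫ pt R
        rw [Category.assoc, Category.assoc, pullback.condition] }
  have hrange : ∀ i, Set.range ((Γ i).ι.base : (Γ i).curve.left → X.left) = j '' (e i).1 := fun i => by
    show Set.range (ι i ≫ j) = _
    rw [Scheme.Hom.comp_base, TopCat.coe_comp, Set.range_comp, hr]
  refine ⟨_, Γ, Groth.L05.ArFamily.isComponentList_of_cover Γ (fun a b h => ?_) (fun x hx => ?_), fun x hx => ?_⟩
  · refine e.injective (Subtype.ext (Set.image_injective.2 j.isClosedEmbedding.injective ?_))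
    exact (hrange a).symm.trans (h.trans (hrange b))
  · obtain ⟨a, rfl⟩ := (range_fst_eq (X := X)).ge hx
    refine ⟨e.symm ⟨_, irreducibleComponent_mem_irreducibleComponents a⟩, ?_⟩
    rw [hrange, Equiv.apply_symm_apply]
    exact ⟨a, mem_irreducibleComponent, rfl⟩
  · let i := e.symm ⟨_, irreducibleComponent_mem_irreducibleComponents x⟩
    refine ⟨i, ?_⟩
    have hi : (e i).1 = irreducibleComponent x := by simp [i]
    show j (ι i (genericPoint (E i))) = j x
    congr 1
    refine hx _ ?_
    obtain ⟨a, ha⟩ := (hr i).ge (hi.ge mem_irreducibleComponent)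
    rw [← ha]
    exact (genericPoint_specializes a).map (ι i).continuous

end Groth.L05.GeomMult
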