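import Mathlib.AlgebraicGeometry.Morphisms.Flat
import Mathlib.AlgebraicGeometry.Morphisms.UniversallyOpen
import Mathlib.RingTheory.LocalRing.Length
import Mathlib.RingTheory.Artinian.Module
import Mathlib.FieldTheory.IsAlgClosed.Basic
import Mathlib.Topology.KrullDimension
import Groth.Agent.L20.Infinitesimal.Flat
import Groth.Agent.L05.FibreDecomp.Main

/-!
Lengths of local rings along flat morphisms, and dimensions from pairs of points.
-/

set_option autoImplicit false
set_option backward.isDefEq.respectTransparency false
set_option linter.style.haveILetI false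
set_option linter.unusedSectionVars false
universe u

open CategoryTheory CategoryTheory.Limits AlgebraicGeometry TopologicalSpace
open scoped TensorProduct

noncomputable section

namespace Groth.L05.GeomMult

section Top

variable {T : Type*} [TopologicalSpace T]

theorem one_le_dim_of_specializes [T0Space T] {a b : T} (h : a ⤳ b) (hne : b ≠ a) :
    (1 : WithBot ℕ∞) ≤ topologicalKrullDim T := by
  let mk : T → IrreducibleCloseds T := fun y => ⟨closure {y}, isIrreducible_singleton.closure, isClosed_closure⟩
  have hle : ∀ {y z : T}, mk y ≤ mk z ↔ z ⤳ y := fun {y z} => specializes_iff_closure_subset.symm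
  have hlt : mk b < mk a := lt_of_le_not_ge (hle.2 h) fun h' => hne ((hle.1 h').antisymm h).eq
  have := Order.LTSeries.length_le_krullDim (LTSeries.mk 1 ![mk b, mk a] (Fin.strictMono_iff_lt_succ.2 fun i => by
    fin_cases i; exact hlt))
  exact_mod_cast this

theorem dim_le_one_of_proper_closed [IrreducibleSpace T] (hT : topologicalKrullDim T = 2) {S : Set T}
    (hS : IsClosed S) (hne : S ≠ Set.univ) : topologicalKrullDim S ≤ 1 := by
  by_contra hlt
  obtain ⟨l, hl⟩ := Order.le_krullDim_iff.1 (show ((2 : ℕ) : WithBot ℕ∞) ≤ Order.krullDim (IrreducibleCloseds S) by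
    have h1 : (1 : WithBot ℕ∞) < topologicalKrullDim S := not_le.1 hlt
    change (1 : WithBot ℕ∞) < Order.krullDim (IrreducibleCloseds S) at h1
    generalize Order.krullDim (IrreducibleCloseds S) = t at h1 ⊢
    induction t using WithBot.recBotCoe with
    | bot => exact absurd h1 (by simp)
    | coe t =>
      have h2 : (1 : ℕ∞) < t := WithBot.coe_lt_coe.1 h1
      exact WithBot.coe_le_coe.2 (Order.add_one_le_of_lt h2))
  have hmap : StrictMono (IrreducibleCloseds.map (Subtype.val : S → T) continuous_subtype_val) :=
    IrreducibleCloseds.map_strictMono_of_isInducing Topology.IsInducing.subtypeVal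
  let top : IrreducibleCloseds T := ⟨Set.univ, IrreducibleSpace.isIrreducible_univ _, isClosed_univ⟩
  have hlast : (l.map _ hmap).last < top := by
    refine lt_of_le_of_ne (fun z _ => Set.mem_univ z) fun e => hne ?_
    have e' : closure (Subtype.val '' (l.last : Set S)) = Set.univ := congrArg IrreducibleCloseds.carrier e
    refine Set.eq_univ_of_univ_subset (e' ▸ closure_minimal ?_ hS)
    rintro _ ⟨y, -, rfl⟩
    exact y.2
  have h3 := Order.LTSeries.length_le_krullDim ((l.map _ hmap).snoc top hlast)
  simp only [RelSeries.snoc_length, LTSeries.map_length, hl] at h3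
  rw [show Order.krullDim (IrreducibleCloseds T) = 2 from hT] at h3
  norm_cast at h3

end Top

/-- Generizations lift along flat morphisms, so maximal points map to maximal points. -/
theorem eq_of_specializes_map {Y Z : Scheme.{u}} (π : Y ⟶ Z) [Flat π] {y : Y} (hy : ∀ y' : Y, y' ⤳ y → y' = y)
    {z : Z} (h : z ⤳ π y) : z = π y := by
  obtain ⟨y', hy', rfl⟩ := Flat.generalizingMap π h
  rw [hy y' hy']

/-- Lengths of local rings are multiplicative along flat morphisms. -/
theorem exists_length_eq_mul {Y Z : Scheme.{u}} (π : Y ⟶ Z) [Flat π] (y : Y) :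
    ∃ c : ℕ∞, Module.length (Y.presheaf.stalk y) (Y.presheaf.stalk y) =
      Module.length (Z.presheaf.stalk (π y)) (Z.presheaf.stalk (π y)) * c := by
  letI : Algebra (Z.presheaf.stalk (π y)) (Y.presheaf.stalk y) := (π.stalkMap y).hom.toAlgebra
  haveI : Module.Flat (Z.presheaf.stalk (π y)) (Y.presheaf.stalk y) := Flat.stalkMap π y
  haveI : IsLocalHom (algebraMap (Z.presheaf.stalk (π y)) (Y.presheaf.stalk y)) :=
    inferInstanceAs (IsLocalHom (π.stalkMap y).hom)
  refine ⟨_, Eq.trans ?_ (IsLocalRing.length_baseChange (A := Z.presheaf.stalk (π y)) (B := Y.presheaf.stalk y)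
    (M := Z.presheaf.stalk (π y)))⟩
  exact (TensorProduct.AlgebraTensorModule.rid (Z.presheaf.stalk (π y)) (Y.presheaf.stalk y)
    (Y.presheaf.stalk y)).length_eq.symm

/-- A divisor of a factor is no obstruction. -/
theorem not_dvd_toNat {ℓ : ℕ} {a c : ℕ∞} (h : ¬ ℓ ∣ (a * c).toNat) : ¬ ℓ ∣ a.toNat := fun hd =>
  h (by rw [ENat.toNat_mul]; exact Dvd.dvd.mul_right hd _)

/-- Length of a ring over itself is invariant under isomorphism. -/
theorem length_self_eq {A B : Type u} [CommRing A] [CommRing B] (e : A ≃+* B) :
    Module.length B B = Module.length A A := by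
  letI : Algebra A B := e.toRingHom.toAlgebra
  rw [← Module.length_eq_of_surjective (S := A) (R := B) (M := B) e.surjective]
  exact (LinearEquiv.ofBijective (Algebra.linearMap A B) e.bijective).length_eq.symm

/-- A finite local algebra over an algebraically closed field: length equals dimension. -/
theorem length_eq_finrank (K T : Type u) [Field K] [IsAlgClosed K] [CommRing T] [IsLocalRing T] [Algebra K T]
    [Module.Finite K T] : Module.length T T = (Module.finrank K T : ℕ∞) := by
  haveI : IsLocalHom (algebraMap K T) := ⟨fun a ha => by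
    rcases eq_or_ne a 0 with rfl | h
    · rw [map_zero] at ha; exact absurd ha not_isUnit_zero
    · exact Ne.isUnit h⟩
  have hb : Function.Bijective (algebraMap K (IsLocalRing.ResidueField T)) := by
    haveI : Module.Finite K (IsLocalRing.ResidueField T) :=
      Module.Finite.of_surjective ((IsScalarTower.toAlgHom K T (IsLocalRing.ResidueField T)).toLinearMap)
        IsLocalRing.residue_surjective
    exact IsAlgClosed.algebraMap_bijective_of_isIntegral (k := K)
  have h1 : Module.length (IsLocalRing.ResidueField K) (IsLocalRing.ResidueField T) = 1 := by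
    have hs : Function.Surjective (algebraMap (IsLocalRing.ResidueField K) (IsLocalRing.ResidueField T)) := fun z => by
      obtain ⟨a, ha⟩ := hb.2 z
      exact ⟨IsLocalRing.residue K a, ha⟩
    rw [Module.length_eq_of_surjective (S := IsLocalRing.ResidueField K) (R := IsLocalRing.ResidueField T)
      (M := IsLocalRing.ResidueField T) hs]
    exact Module.length_eq_one _ _
  have h := IsLocalRing.length_restrictScalars (A := K) (B := T) (M := T)
  rw [h1, mul_one, Module.length_eq_finrank] at h
  exact h.symm

open Groth.L05.FibreDecomp in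
/-- The multiplicity is the length of the local ring of the closed fibre. -/
theorem length_stalk_eq_of_ker {R : Type u} [CommRing R] [IsDomain R] [IsDiscreteValuationRing R]
    {X : Over (Spec (CommRingCat.of R))} {Y : Scheme.{u}} (j : Y ⟶ X.left) [IsClosedImmersion j]
    (hk : j.ker = Models.specialFibreIdeal R X) (y : Y) :
    Module.length (Y.presheaf.stalk y) (Y.presheaf.stalk y) =
      Module.length (X.left.presheaf.stalk (j y))
        (X.left.presheaf.stalk (j y) ⧸ (IsLocalRing.maximalIdeal R).map (Models.stalkHom R X (j y))) := by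
  obtain ⟨_, ⟨W, hW, rfl⟩, hyW, -⟩ :=
    X.left.isBasis_affineOpens.exists_subset_of_mem_open (Set.mem_univ (j y)) isOpen_univ
  have hs : RingHom.ker (j.stalkMap y).hom = (IsLocalRing.maximalIdeal R).map (Models.stalkHom R X (j y)) := by
    rw [Groth.L20.Infinitesimal.ker_stalkMap, Groth.L20.SeeNormal.sI_eq _ ⟨W, hW⟩ hyW, hk,
      ← stalkIdeal_specialFibreIdeal (X := X) ⟨W, hW⟩ (j y) hyW]
    rfl
  let e := RingHom.quotientKerEquivOfSurjective (f := (j.stalkMap y).hom) (j.stalkMap_surjective y)
  rw [length_self_eq e, hs]
  exact Module.length_eq_of_surjective (S := X.left.presheaf.stalk (j y)) Ideal.Quotient.mk_surjective |>.symm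

end Groth.L05.GeomMult
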